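import Groth.Agent.L02.PicH1.Basic
import Groth.Agent.L22.PicGlue.Cocycle
import Groth.Agent.L22.PicGlue.GensIso
import Groth.Prelude.Def_UnitsSh

/-!
Invertible modules and sections of a quotient of the sheaf of units.
-/

set_option autoImplicit false
set_option linter.style.haveILetI false
set_option linter.unusedSectionVars false
set_option backward.isDefEq.respectTransparency.types false
set_option backward.isDefEq.respectTransparency false

universe u

open CategoryTheory CategoryTheory.Limits AlgebraicGeometry Opposite TopologicalSpace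
open Groth.L21.Extend (rs rO rs_rs rs_self rO_rO rs_smul IsGen exists_gen_of_iso)

noncomputable section

namespace Groth.L02.PicH1

variable {X : Scheme.{u}}

/-- a unit as a section of the sheaf of units -/
abbrev sec {O : X.Opens} (a : Γ(X, O)ˣ) : (UnitsSh.unitsAb X).obj.obj (op O) :=
  UnitsSh.sectOfUnit (O := X.sheaf.obj) (U := op O) a

theorem sec_mul {O : X.Opens} (a b : Γ(X, O)ˣ) : sec (a * b) = sec a + sec b := rfl

theorem sec_one (O : X.Opens) : sec (1 : Γ(X, O)ˣ) = 0 := rfl

theorem sec_inv {O : X.Opens} (a : Γ(X, O)ˣ) : sec a⁻¹ = - sec a := rfl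

theorem sec_injective {O : X.Opens} {a b : Γ(X, O)ˣ} (h : sec a = sec b) : a = b :=
  congrArg (UnitsSh.unitOfSect (O := X.sheaf.obj) (U := op O)) h

theorem sec_surjective {O : X.Opens} (z : (UnitsSh.unitsAb X).obj.obj (op O)) : ∃ a, sec a = z :=
  ⟨UnitsSh.unitOfSect (O := X.sheaf.obj) (U := op O) z, rfl⟩

/-- restriction of units -/
abbrev rU {V W : X.Opens} (h : V ≤ W) (a : Γ(X, W)ˣ) : Γ(X, V)ˣ :=
  Units.map (X.presheaf.map (homOfLE h).op).hom.toMonoidHom a

theorem rU_coe {V W : X.Opens} (h : V ≤ W) (a : Γ(X, W)ˣ) : (rU h a : Γ(X, V)) = rO X h a := rfl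

theorem res_sec {V W : X.Opens} (h : V ≤ W) (a : Γ(X, W)ˣ) :
    res (UnitsSh.unitsAb X) h (sec a) = sec (rU h a) := rfl

theorem exists_unit_trans {L : X.Modules} {O O' W : X.Opens} {e : Γ(L, O)} {e' : Γ(L, O')}
    (he : IsGen L O e) (he' : IsGen L O' e') (h : W ≤ O) (h' : W ≤ O') :
    ∃ a : Γ(X, W)ˣ, (a : Γ(X, W)) • rs L h e = rs L h' e' := by
  obtain ⟨a, ha⟩ := (he W h).2 (rs L h' e')
  obtain ⟨b, hb⟩ := (he' W h').2 (rs L h e)
  change a • rs L h e = rs L h' e' at ha
  change b • rs L h' e' = rs L h e at hb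
  refine ⟨Units.mkOfMulEqOne a b ((he' W h').1 ?_), ha⟩
  show (a * b) • rs L h' e' = (1 : Γ(X, W)) • rs L h' e'
  rw [one_smul, mul_smul, hb, ha]

theorem trans_eq {L : X.Modules} {O : X.Opens} {e : Γ(L, O)} (he : IsGen L O e) {W : X.Opens} (h : W ≤ O)
    {a b : Γ(X, W)ˣ} {y : Γ(L, W)} (ha : (a : Γ(X, W)) • rs L h e = y) (hb : (b : Γ(X, W)) • rs L h e = y) : a = b :=
  Units.ext ((he W h).1 (ha.trans hb.symm))

variable {I Q : CohTop.Ab X.toTopCat} (f : UnitsSh.unitsAb X ⟶ I) (g : I ⟶ Q)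

/-- a section of the quotient and an invertible module given by the same cocycle -/
def Assoc (t : Q.obj.obj (op ⊤)) (L : X.Modules) : Prop :=
  ∃ (ι : Type u) (N : ι → X.Opens) (s : ∀ i, I.obj.obj (op (N i))) (e : ∀ i, Γ(L, N i)),
    (∀ x : X, ∃ i, x ∈ N i) ∧ (∀ i, g.hom.app _ (s i) = res Q le_top t) ∧
      (∀ i, IsGen L (N i) (e i)) ∧ ∀ (i j : ι) (W : X.Opens) (hi : W ≤ N i) (hj : W ≤ N j) (a : Γ(X, W)ˣ),
        (a : Γ(X, W)) • rs L hi (e i) = rs L hj (e j) → f.hom.app _ (sec a) = res I hj (s j) - res I hi (s i)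

variable {f g} {w : f ≫ g = 0}

theorem exists_assoc_module (hS : (ShortComplex.mk f g w).ShortExact) (t : Q.obj.obj (op ⊤)) :
    ∃ L : X.Modules, PicF.IsInvertible L ∧ Assoc f g t L := by
  choose N hle s hN hs using fun x : X => exists_local_lift hS t (show x ∈ (⊤ : X.Opens) from trivial)
  have hinj : ∀ {O : X.Opens} {b c : Γ(X, O)ˣ}, f.hom.app _ (sec b) = f.hom.app _ (sec c) → b = c :=
    fun h => sec_injective (app_injective hS _ h)
  have htr : ∀ i j, ∃ a : Γ(X, N i ⊓ N j)ˣ, f.hom.app _ (sec a) =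
      res I inf_le_right (s j) - res I inf_le_left (s i) := fun i j => by
    obtain ⟨z, hz⟩ := app_exact hS (res I (inf_le_right : N i ⊓ N j ≤ N j) (s j) - res I inf_le_left (s i)) (by
      rw [map_sub, res_nat, res_nat, hs, hs, res_res, res_res, sub_self])
    obtain ⟨a, rfl⟩ := sec_surjective z
    exact ⟨a, hz⟩
  choose a ha using htr
  have hres : ∀ i j {W : X.Opens} (h : W ≤ N i ⊓ N j), f.hom.app _ (sec (rU h (a i j))) =
      res I (h.trans inf_le_right) (s j) - res I (h.trans inf_le_left) (s i) := fun i j W h => by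
    rw [← res_sec, res_nat, ha, map_sub, res_res, res_res]
  let C : Groth.L22.PicGlue.Cocycle X :=
    { ι := X
      N := N
      g := fun i j => (a i j : Γ(X, N i ⊓ N j))
      one := fun i => by
        have : a i i = 1 := hinj (by rw [ha, sec_one, map_zero, sub_eq_zero])
        rw [this, Units.val_one]
      comp := fun i j k => by
        have : rU (inf_le_left : N i ⊓ N j ⊓ N k ≤ _) (a i j) *
            rU (inf_le_inf_right (N k) inf_le_right : N i ⊓ N j ⊓ N k ≤ N j ⊓ N k) (a j k) =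
              rU (inf_le_inf_right (N k) inf_le_left : N i ⊓ N j ⊓ N k ≤ N i ⊓ N k) (a i k) := hinj (by
          rw [sec_mul, map_add, hres, hres, hres]
          abel)
        exact congrArg Units.val this }
  refine ⟨Groth.L22.PicGlue.glueMod C, Groth.L22.PicGlue.isInvertible_glueMod C fun x => ⟨x, hN x⟩, X, N, s,
    Groth.L22.PicGlue.gen C, fun x => ⟨x, hN x⟩, hs, Groth.L22.PicGlue.isGen_gen C, fun i j W hi hj b hb => ?_⟩
  have e := congrArg (rs (Groth.L22.PicGlue.glueMod C) (le_inf hi hj : W ≤ N i ⊓ N j))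
    (Groth.L22.PicGlue.gen_trans C i j)
  rw [rs_smul, rs_rs, rs_rs] at e
  have hbe : b = rU (le_inf hi hj) (a i j) :=
    trans_eq (Groth.L22.PicGlue.isGen_gen C i) hi hb e.symm
  rw [hbe, hres]

include w in
theorem exists_assoc_section [Injective I] (L : X.Modules)
    (hL : PicF.IsInvertible L) : ∃ t, Assoc f g t L := by
  have hgen : ∀ x : X, ∃ (N : X.Opens) (e : Γ(L, N)), x ∈ N ∧ IsGen L N e := fun x => by
    obtain ⟨U, hx, ⟨φ⟩⟩ := hL x
    obtain ⟨e, he⟩ := exists_gen_of_iso L φ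
    exact ⟨U, e, hx, he⟩
  choose N e hN he using hgen
  have hfa : ∀ {V W : X.Opens} (h : V ≤ W) (a : Γ(X, W)ˣ), res I h (f.hom.app _ (sec a)) = f.hom.app _ (sec (rU h a)) :=
    fun h a => by rw [← res_nat, res_sec]
  have hrs : ∀ {V W : X.Opens} (h : V ≤ W) {i j : X} {hi : W ≤ N i} {hj : W ≤ N j} {a : Γ(X, W)ˣ},
      (a : Γ(X, W)) • rs L hi (e i) = rs L hj (e j) →
      ((rU h a : Γ(X, V)ˣ) : Γ(X, V)) • rs L (h.trans hi) (e i) = rs L (h.trans hj) (e j) := fun h => fun ha => by
    have := congrArg (rs L h) ha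
    rw [rs_smul, rs_rs, rs_rs] at this
    exact this
  choose a ha using fun i j : X => exists_unit_trans (he i) (he j)
    (inf_le_left : N i ⊓ N j ≤ N i) (inf_le_right : N i ⊓ N j ≤ N j)
  -- compatibility of two partial solutions
  let Ok : (Σ i : X, I.obj.obj (op (N i))) → (Σ i : X, I.obj.obj (op (N i))) → Prop := fun p q =>
    f.hom.app _ (sec (a p.1 q.1)) = res I inf_le_right q.2 - res I inf_le_left p.2
  obtain ⟨G, hG, hmax⟩ := zorn_subset {G : Set (Σ i : X, I.obj.obj (op (N i))) | ∀ p ∈ G, ∀ q ∈ G, Ok p q}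
    fun c hc hchain => ⟨⋃₀ c, fun p ⟨A, hA, hp⟩ q ⟨B, hB, hq⟩ => (hchain.total hA hB).elim
      (fun h => hc hB p (h hp) q hq) (fun h => hc hA p hp q (h hq)), fun A hA => Set.subset_sUnion_of_mem hA⟩
  have hall : ∀ k, ∃ s, (⟨k, s⟩ : Σ i : X, I.obj.obj (op (N i))) ∈ G := fun k => by
    let O : G → X.Opens := fun p => N p.1.1 ⊓ N k
    let U : X.Opens := ⨆ p, O p
    have hO : ∀ p, O p ≤ U := le_iSup O
    obtain ⟨v, hv⟩ := glue_sec I O hO (fun x hx => Opens.mem_iSup.1 hx)
      (fun p => res I inf_le_left p.1.2 + f.hom.app _ (sec (a p.1.1 k))) fun p q => by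
        have h3 : O p ⊓ O q ≤ N p.1.1 ⊓ N q.1.1 := inf_le_inf inf_le_left inf_le_left
        have e := congrArg (res I h3) (hG p.1 p.2 q.1 q.2)
        rw [hfa] at e
        simp only [map_sub, res_res] at e
        have hu : rU (inf_le_left : O p ⊓ O q ≤ O p) (a p.1.1 k) =
            rU (inf_le_right : O p ⊓ O q ≤ O q) (a q.1.1 k) * rU h3 (a p.1.1 q.1.1) := by
          refine trans_eq (he p.1.1) (inf_le_left.trans inf_le_left) (hrs _ (ha p.1.1 k)) ?_
          rw [Units.val_mul, mul_smul, hrs h3 (ha p.1.1 q.1.1), hrs (inf_le_right : O p ⊓ O q ≤ O q) (ha q.1.1 k)]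
        simp only [map_add]
        rw [hfa, hfa, hu, sec_mul, map_add, e]
        repeat rw [res_res]
        abel
    obtain ⟨s, hs⟩ := surjective_res I (iSup_le fun p => inf_le_right : U ≤ N k) v
    have hsp : ∀ p : G, Ok p.1 ⟨k, s⟩ := fun p => by
      show f.hom.app _ _ = res I _ s - res I _ p.1.2
      rw [← res_res I (hO p) (iSup_le fun p => inf_le_right : U ≤ N k), hs, hv]
      abel
    have hps : ∀ p : G, Ok ⟨k, s⟩ p.1 := fun p => by
      have h3 : N k ⊓ N p.1.1 ≤ N p.1.1 ⊓ N k := le_inf inf_le_right inf_le_left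
      have e := congrArg (res I h3) (hsp p)
      rw [hfa] at e
      simp only [map_sub, res_res] at e
      have hu : a k p.1.1 = (rU h3 (a p.1.1 k))⁻¹ := by
        refine trans_eq (he k) inf_le_left (ha k p.1.1) ?_
        rw [← hrs h3 (ha p.1.1 k), ← mul_smul, ← Units.val_mul, inv_mul_cancel, Units.val_one, one_smul]
      show f.hom.app _ (sec (a k p.1.1)) = _
      rw [hu, sec_inv, map_neg, e]
      abel
    refine ⟨s, hmax (y := insert ⟨k, s⟩ G) ?_ (Set.subset_insert _ _) (Set.mem_insert _ _)⟩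
    rintro p (rfl | hp) q (rfl | hq)
    · have h1 : a k k = 1 := trans_eq (he k) inf_le_left (ha k k) (by rw [Units.val_one, one_smul])
      show f.hom.app _ (sec (a k k)) = _
      rw [h1, sec_one, map_zero, sub_self]
    · exact hps ⟨q, hq⟩
    · exact hsp ⟨p, hp⟩
    · exact hG p hp q hq
  choose s hs using hall
  have hgs : ∀ i j, res Q (inf_le_left : N i ⊓ N j ≤ N i) (g.hom.app _ (s i)) =
      res Q (inf_le_right : N i ⊓ N j ≤ N j) (g.hom.app _ (s j)) := fun i j => by
    have := congrArg (g.hom.app _) (hG _ (hs i) _ (hs j))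
    rw [g_f (w := w), map_sub, res_nat, res_nat] at this
    exact (sub_eq_zero.1 this.symm).symm
  obtain ⟨t₀, ht₀⟩ := glue_sec Q N (fun i => (le_top : N i ≤ (⊤ : X.Opens))) (fun x _ => ⟨x, hN x⟩) _ hgs
  refine ⟨t₀, X, N, s, e, fun x => ⟨x, hN x⟩, fun i => (ht₀ i).symm, he, fun i j W hi hj b hb => ?_⟩
  have hbe : b = rU (le_inf hi hj) (a i j) := trans_eq (he i) hi hb (hrs _ (ha i j))
  rw [hbe, ← hfa, hG _ (hs i) _ (hs j)]
  simp only [map_sub, res_res]

theorem assoc_zero : Assoc f g 0 (Coh.structureModule X) := by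
  refine ⟨PUnit.{u + 1}, fun _ => ⊤, fun _ => 0, fun _ => (show Γ(X, ⊤) from 1), fun _ => ⟨PUnit.unit, trivial⟩,
    fun _ => by simp, fun _ V h => ?_, fun i j W hi hj b hb => ?_⟩
  · have : (fun a : Γ(X, V) => a • rs (Coh.structureModule X) h (show Γ(X, ⊤) from 1)) = id := funext fun a => by
      show a * rO X h 1 = a
      rw [Groth.L22.PicGlue.rO_one, mul_one]
    rw [this]
    exact Function.bijective_id
  · have hb1 : b = 1 := Units.ext (by
      have : (b : Γ(X, W)) * rO X hi 1 = rO X hj 1 := hb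
      simpa [Groth.L22.PicGlue.rO_one] using this)
    rw [hb1, sec_one, map_zero]
    simp

theorem exists_iff_iso (hS : (ShortComplex.mk f g w).ShortExact) {t t' : Q.obj.obj (op ⊤)}
    {L L' : X.Modules} (h : Assoc f g t L) (h' : Assoc f g t' L') :
    (∃ z, g.hom.app (op ⊤) z = t' - t) ↔ Nonempty (L ≅ L') := by
  obtain ⟨ι, N, s, e, hcov, hs, he, htr⟩ := h
  obtain ⟨ι', N', s', e', hcov', hs', he', htr'⟩ := h'
  let M : ι × ι' → X.Opens := fun p => N p.1 ⊓ N' p.2
  have hM : ∀ x : X, ∃ p, x ∈ M p := fun x => by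
    obtain ⟨i, hi⟩ := hcov x
    obtain ⟨k, hk⟩ := hcov' x
    exact ⟨(i, k), hi, hk⟩
  have hinj : ∀ {O : X.Opens} {b c : Γ(X, O)ˣ}, f.hom.app _ (sec b) = f.hom.app _ (sec c) → b = c :=
    fun h => sec_injective (app_injective hS _ h)
  constructor
  · rintro ⟨z, hz⟩
    have hb : ∀ p : ι × ι', ∃ b : Γ(X, M p)ˣ, f.hom.app _ (sec b) = res I inf_le_right (s' p.2) -
        res I inf_le_left (s p.1) - res I le_top z := fun p => by
      obtain ⟨d, hd⟩ := app_exact hS (res I (inf_le_right : M p ≤ N' p.2) (s' p.2) -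
        res I inf_le_left (s p.1) - res I le_top z) (by
          rw [map_sub, map_sub, res_nat, res_nat, res_nat, hs, hs', hz]
          simp only [map_sub, res_res]
          abel)
      obtain ⟨b, rfl⟩ := sec_surjective d
      exact ⟨b, hd⟩
    choose b hb using hb
    refine Groth.L22.PicGlue.nonempty_iso_of_gens M (e := fun p => rs L inf_le_left (e p.1))
      (e' := fun p => (((b p)⁻¹ : Γ(X, M p)ˣ) : Γ(X, M p)) • rs L' inf_le_right (e' p.2))
      (fun p => (he p.1).restrict L _) (fun p => ?_) hM fun p q W hp hq c hc => ?_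
    · intro V hV
      have hbij := (he' p.2 V (hV.trans inf_le_right)).comp
        (Units.mulRight (rU hV (b p))⁻¹).bijective
      refine Eq.mp (congrArg Function.Bijective (funext fun r => ?_)) hbij
      show (r * _) • rs L' _ (e' p.2) = r • rs L' hV (_ • _)
      rw [rs_smul, rs_rs, mul_smul, ← map_inv]
      rfl
    · rw [rs_rs, rs_rs] at hc
      obtain ⟨c₁, hc₁⟩ := exists_unit_trans (he p.1) (he q.1) (hp.trans inf_le_left) (hq.trans inf_le_left)
      obtain ⟨c₂, hc₂⟩ := exists_unit_trans (he' p.2) (he' q.2) (hp.trans inf_le_right) (hq.trans inf_le_right)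
      obtain rfl : c = c₁ := (he p.1 W (hp.trans inf_le_left)).1 (hc.trans hc₁.symm)
      have h1 := htr p.1 q.1 W _ _ c₁ hc₁
      have h2 := htr' p.2 q.2 W _ _ c₂ hc₂
      have hbp := congrArg (res I hp) (hb p)
      have hbq := congrArg (res I hq) (hb q)
      rw [← res_nat, res_sec] at hbp hbq
      simp only [map_sub] at hbp hbq
      repeat rw [res_res] at hbp
      repeat rw [res_res] at hbq
      have key : c₂ * (rU hq (b q))⁻¹ = c₁ * (rU hp (b p))⁻¹ := hinj (by
        rw [sec_mul, sec_mul, sec_inv, sec_inv, map_add, map_add, map_neg, map_neg, h1, h2, hbp, hbq]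
        abel)
      rw [rs_smul, rs_smul, rs_rs, rs_rs, ← hc₂, ← mul_smul, ← mul_smul]
      refine congrArg (· • rs L' (hp.trans inf_le_right) (e' p.2)) ?_
      show (c₁ : Γ(X, W)) * rO X hp (((b p)⁻¹ : Γ(X, M p)ˣ) : Γ(X, M p)) =
        rO X hq (((b q)⁻¹ : Γ(X, M q)ˣ) : Γ(X, M q)) * (c₂ : Γ(X, W))
      have := congrArg Units.val key
      rw [Units.val_mul, Units.val_mul, ← map_inv, ← map_inv] at this
      rw [mul_comm (rO X hq _)]
      exact this.symm
  · rintro ⟨φ⟩
    let E : ∀ p : ι × ι', Γ(L', M p) := fun p => φ.hom.app (M p) (rs L inf_le_left (e p.1))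
    have hE : ∀ p, IsGen L' (M p) (E p) := fun p V hV => by
      have hbij := (ConcreteCategory.bijective_of_isIso (φ.hom.app V)).comp ((he p.1).restrict L inf_le_left V hV)
      refine Eq.mp (congrArg Function.Bijective (funext fun r => ?_)) hbij
      show φ.hom.app V (r • _) = _
      rw [Scheme.Modules.Hom.app_smul]
      exact congrArg (r • ·) (ConcreteCategory.congr_hom (φ.hom.mapPresheaf.naturality (homOfLE hV).op) _)
    choose b hb using fun p => exists_unit_trans (hE p) (he' p.2) (le_refl (M p)) (inf_le_right : M p ≤ N' p.2)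
    let v : ∀ p, I.obj.obj (op (M p)) := fun p =>
      res I inf_le_right (s' p.2) - res I inf_le_left (s p.1) - f.hom.app _ (sec (b p))
    have hcomp : ∀ p q, res I (inf_le_left : M p ⊓ M q ≤ M p) (v p) = res I (inf_le_right : M p ⊓ M q ≤ M q) (v q) :=
      fun p q => by
        obtain ⟨c₁, hc₁⟩ := exists_unit_trans (he p.1) (he q.1)
          ((inf_le_left : M p ⊓ M q ≤ M p).trans inf_le_left) ((inf_le_right : M p ⊓ M q ≤ M q).trans inf_le_left)
        obtain ⟨c₂, hc₂⟩ := exists_unit_trans (he' p.2) (he' q.2)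
          ((inf_le_left : M p ⊓ M q ≤ M p).trans inf_le_right) ((inf_le_right : M p ⊓ M q ≤ M q).trans inf_le_right)
        have h1 := htr p.1 q.1 _ _ _ c₁ hc₁
        have h2 := htr' p.2 q.2 _ _ _ c₂ hc₂
        have hn : ∀ r (hr : M p ⊓ M q ≤ M r), φ.hom.app _ (rs L (hr.trans inf_le_left) (e r.1)) = rs L' hr (E r) :=
          fun r hr => by
            rw [← rs_rs L hr inf_le_left]
            exact ConcreteCategory.congr_hom (φ.hom.mapPresheaf.naturality (homOfLE hr).op) _
        have hb' : ∀ r (hr : M p ⊓ M q ≤ M r), ((rU hr (b r) : Γ(X, M p ⊓ M q)ˣ) : Γ(X, M p ⊓ M q)) • rs L' hr (E r) =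
            rs L' (hr.trans inf_le_right) (e' r.2) := fun r hr => by
          have := congrArg (rs L' hr) (hb r)
          rw [rs_smul, rs_rs, rs_rs] at this
          exact this
        have key : c₂ * rU inf_le_left (b p) = rU inf_le_right (b q) * c₁ := by
          refine trans_eq (hE p) inf_le_left
            (y := rs L' ((inf_le_right : M p ⊓ M q ≤ M q).trans inf_le_right) (e' q.2)) ?_ ?_
          · rw [Units.val_mul, mul_smul, hb', hc₂]
          · rw [Units.val_mul, mul_smul, ← hn p, ← Scheme.Modules.Hom.app_smul, hc₁, hn q inf_le_right, hb']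
        have key' := congrArg (fun u => f.hom.app _ (sec u)) key
        rw [sec_mul, sec_mul, map_add, map_add, ← res_sec, ← res_sec, res_nat, res_nat, h1, h2] at key'
        simp only [v, map_sub] at key' ⊢
        repeat rw [res_res]
        linear_combination (norm := abel) -key'
    obtain ⟨z₀, hz₀⟩ := glue_sec I M (fun p => (le_top : M p ≤ (⊤ : X.Opens))) (fun x _ => hM x) v hcomp
    refine ⟨z₀, ext_sec Q M (fun p => le_top) (fun x _ => hM x) fun p => ?_⟩
    rw [← res_nat, hz₀]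
    simp only [v, map_sub]
    rw [g_f (w := w), sub_zero, res_nat, res_nat, hs, hs', res_res, res_res]

end Groth.L02.PicH1
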