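import Groth.Agent.L10.TopCoh
import Mathlib.Topology.Sheaves.SheafCondition.UniqueGluing
import Mathlib.Topology.Sheaves.AddCommGrpCat

/-!
Sections of abelian sheaves on a space and the first connecting homomorphism.
-/

set_option autoImplicit false
set_option linter.style.haveILetI false
set_option backward.isDefEq.respectTransparency.types false
set_option backward.isDefEq.respectTransparency false

universe u

open CategoryTheory CategoryTheory.Limits CategoryTheory.Abelian Opposite TopologicalSpace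

noncomputable section

namespace Groth.L02.PicH1

open Groth.L10.SiteCoh (fs hu0 hu0_comp hEquiv surjective_map_of_injective locally_surjective_of_epi)
open Groth.L10.TopCoh (topTerminal)

variable {X : TopCat.{u}}

/-- restriction of sections -/
def res (F : CohTop.Ab X) {V W : Opens X} (h : V ≤ W) : F.obj.obj (op W) →+ F.obj.obj (op V) :=
  (F.obj.map (homOfLE h).op).hom

theorem res_eq (F : CohTop.Ab X) {V W : Opens X} (h : V ≤ W) (s : F.obj.obj (op W)) :
    res F h s = F.obj.map (homOfLE h).op s := rfl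

theorem res_res (F : CohTop.Ab X) {U V W : Opens X} (h : U ≤ V) (h' : V ≤ W) (s : F.obj.obj (op W)) :
    res F h (res F h' s) = res F (h.trans h') s := by
  show F.obj.map _ (F.obj.map _ s) = _
  rw [← Functor.map_comp_apply]
  rfl

theorem res_self (F : CohTop.Ab X) {W : Opens X} (s : F.obj.obj (op W)) : res F le_rfl s = s :=
  (congrArg (fun m => F.obj.map m s) (Subsingleton.elim (homOfLE (le_refl W)).op (𝟙 _))).trans (by
    rw [F.obj.map_id]
    rfl)

theorem res_nat {F G : CohTop.Ab X} (φ : F ⟶ G) {V W : Opens X} (h : V ≤ W) (s : F.obj.obj (op W)) :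
    φ.hom.app (op V) (res F h s) = res G h (φ.hom.app (op W) s) :=
  NatTrans.naturality_apply φ.hom (homOfLE h).op s

theorem glue_sec (F : CohTop.Ab X) {ι : Type u} {W : Opens X} (O : ι → Opens X) (hO : ∀ i, O i ≤ W)
    (hc : ∀ x ∈ W, ∃ i, x ∈ O i) (t : ∀ i, F.obj.obj (op (O i)))
    (h : ∀ i j, res F (inf_le_left : O i ⊓ O j ≤ O i) (t i) = res F (inf_le_right : O i ⊓ O j ≤ O j) (t j)) :
    ∃ s : F.obj.obj (op W), ∀ i, res F (hO i) s = t i := by
  obtain ⟨s, hs, -⟩ := TopCat.Sheaf.existsUnique_gluing' (X := X) F O W (fun i => homOfLE (hO i))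
    (fun x hx => Opens.mem_iSup.2 (hc x hx)) t (fun i j => h i j)
  exact ⟨s, hs⟩

theorem ext_sec (F : CohTop.Ab X) {ι : Type u} {W : Opens X} (O : ι → Opens X) (hO : ∀ i, O i ≤ W)
    (hc : ∀ x ∈ W, ∃ i, x ∈ O i) {s t : F.obj.obj (op W)} (h : ∀ i, res F (hO i) s = res F (hO i) t) : s = t :=
  TopCat.Sheaf.eq_of_locally_eq' (X := X) F O W (fun i => homOfLE (hO i))
    (fun x hx => Opens.mem_iSup.2 (hc x hx)) s t h

theorem surjective_res (I : CohTop.Ab X) [Injective I] {V W : Opens X} (h : V ≤ W) :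
    Function.Surjective (res I h) := by
  haveI : Mono (homOfLE h) := ⟨fun _ _ _ => Subsingleton.elim _ _⟩
  exact surjective_map_of_injective I (homOfLE h)

variable {A I Q : CohTop.Ab X} {f : A ⟶ I} {g : I ⟶ Q} {w : f ≫ g = 0}

include w in
theorem g_f {O : Opens X} (z : A.obj.obj (op O)) : g.hom.app (op O) (f.hom.app (op O) z) = 0 :=
  ConcreteCategory.congr_hom (congrArg (fun k : A ⟶ Q => k.hom.app (op O)) w) z

variable (hS : (ShortComplex.mk f g w).ShortExact)

include hS

theorem app_injective (O : Opens X) : Function.Injective (f.hom.app (op O)) := by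
  haveI : Mono f := hS.mono_f
  haveI : Mono f.hom := (sheafToPresheaf (Opens.grothendieckTopology X) AddCommGrpCat.{u}).map_mono f
  exact (AddCommGrpCat.mono_iff_injective _).1 ((NatTrans.mono_iff_mono_app f.hom).1 inferInstance (op O))

theorem app_exact {O : Opens X} (s : I.obj.obj (op O)) (h : g.hom.app (op O) s = 0) :
    ∃ z, f.hom.app (op O) z = s :=
  TopCat.Sheaf.sections_exact_of_left_exact hS.exact hS.mono_f (U := O) s h

theorem exists_local_lift {O : Opens X} (t : Q.obj.obj (op O)) {x : X} (hx : x ∈ O) :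
    ∃ (V : Opens X) (h : V ≤ O) (s : I.obj.obj (op V)), x ∈ V ∧ g.hom.app (op V) s = res Q h t := by
  haveI : Epi g := hS.epi_g
  obtain ⟨S, hlift⟩ := locally_surjective_of_epi g t
  obtain ⟨V, j, hj, hxV⟩ := S.2 x hx
  obtain ⟨s, hs⟩ := hlift ⟨V, j, hj⟩
  exact ⟨V, j.le, s, hxV, hs⟩

/-- the connecting homomorphism on global sections -/
def δ₀ : Q.obj.obj (op ⊤) →+ CohTop.H A 1 :=
  AddMonoidHom.mk' (fun t => (hEquiv (topTerminal X) A 1).symm
    (((hu0 Q ⊤).symm t).comp hS.extClass (zero_add 1))) fun t t' => by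
      rw [map_add, Ext.add_comp, map_add]

theorem δ₀_eq_zero_iff (t : Q.obj.obj (op ⊤)) : δ₀ hS t = 0 ↔ ∃ z, g.hom.app (op ⊤) z = t := by
  show (hEquiv (topTerminal X) A 1).symm _ = 0 ↔ _
  rw [EmbeddingLike.map_eq_zero_iff]
  constructor
  · intro h
    obtain ⟨y, hy⟩ := Ext.covariant_sequence_exact₃ _ hS ((hu0 Q ⊤).symm t) (zero_add 1) h
    exact ⟨hu0 I ⊤ y, by
      show g.hom.app (op ⊤) _ = t
      rw [← hu0_comp, hy, AddEquiv.apply_symm_apply]⟩
  · rintro ⟨z, rfl⟩
    have : (hu0 Q ⊤).symm (g.hom.app (op ⊤) z) = ((hu0 I ⊤).symm z).comp (Ext.mk₀ g) (add_zero 0) := by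
      apply (hu0 Q ⊤).injective
      rw [hu0_comp, AddEquiv.apply_symm_apply, AddEquiv.apply_symm_apply]
    rw [this]
    exact (Ext.comp_assoc_of_second_deg_zero _ _ _ _).trans (by
      rw [show (Ext.mk₀ g).comp hS.extClass (zero_add 1) = 0 from hS.comp_extClass, Ext.comp_zero])

theorem exists_δ₀ [Injective I] (c : CohTop.H A 1) : ∃ t, δ₀ hS t = c := by
  obtain ⟨y, hy⟩ := Ext.covariant_sequence_exact₁ _ hS (hEquiv (topTerminal X) A 1 c)
    (Ext.eq_zero_of_injective _) (zero_add 1)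
  refine ⟨hu0 Q ⊤ y, ?_⟩
  show (hEquiv (topTerminal X) A 1).symm (((hu0 Q ⊤).symm _).comp _ _) = c
  rw [AddEquiv.symm_apply_apply]
  exact ((hEquiv (topTerminal X) A 1).symm_apply_eq).2 hy

end Groth.L02.PicH1
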