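import Groth.Agent.L02.PicH1.Assoc
import Groth.Agent.L18.GenLocus
import Groth.Prelude.Def_PicGrp

/-!
The Picard group is the first cohomology of the sheaf of units.
-/

set_option autoImplicit false
set_option linter.style.haveILetI false
set_option linter.unusedSectionVars false
set_option backward.isDefEq.respectTransparency.types false
set_option backward.isDefEq.respectTransparency false

universe u

open CategoryTheory CategoryTheory.Limits AlgebraicGeometry Opposite TopologicalSpace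
open Groth.L21.Extend (rs rs_rs rs_smul IsGen)
open Groth.L18.GenLoc (tens tens_rs tens_smul_left tens_smul_right isFrame_tens)

noncomputable section

namespace Groth.L02.PicH1

variable {X : Scheme.{u}} {I Q : CohTop.Ab X.toTopCat} {f : UnitsSh.unitsAb X ⟶ I} {g : I ⟶ Q}

theorem rs_tens {L L' : X.Modules} {U V : X.Opens} (h : V ≤ U) (m : Γ(L, U)) (n : Γ(L', U)) :
    rs (CohB1.tensorMod L L') h (tens L L' U m n) = tens L L' V (rs L h m) (rs L' h n) := tens_rs h m n

theorem assoc_add {t t' : Q.obj.obj (op ⊤)} {L L' : X.Modules}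
    (h : Assoc f g t L) (h' : Assoc f g t' L') : Assoc f g (t + t') (CohB1.tensorMod L L') := by
  obtain ⟨ι, N, s, e, hcov, hs, he, htr⟩ := h
  obtain ⟨ι', N', s', e', hcov', hs', he', htr'⟩ := h'
  let M : ι × ι' → X.Opens := fun p => N p.1 ⊓ N' p.2
  refine ⟨ι × ι', M, fun p => res I inf_le_left (s p.1) + res I inf_le_right (s' p.2),
    fun p => tens L L' (M p) (rs L inf_le_left (e p.1)) (rs L' inf_le_right (e' p.2)), fun x => ?_, fun p => ?_,
    fun p => ?_, fun p q W hp hq a ha => ?_⟩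
  · obtain ⟨i, hi⟩ := hcov x
    obtain ⟨k, hk⟩ := hcov' x
    exact ⟨(i, k), hi, hk⟩
  · rw [map_add, res_nat, res_nat, hs, hs', res_res, res_res, map_add]
  · exact isFrame_tens ((he p.1).restrict L inf_le_left) ((he' p.2).restrict L' inf_le_right)
  · obtain ⟨c₁, hc₁⟩ := exists_unit_trans (he p.1) (he q.1) (hp.trans inf_le_left) (hq.trans inf_le_left)
    obtain ⟨c₂, hc₂⟩ := exists_unit_trans (he' p.2) (he' q.2) (hp.trans inf_le_right) (hq.trans inf_le_right)
    rw [rs_tens, rs_tens, rs_rs, rs_rs, rs_rs, rs_rs] at ha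
    have hF : IsGen (CohB1.tensorMod L L') W
        (tens L L' W (rs L (hp.trans inf_le_left) (e p.1)) (rs L' (hp.trans inf_le_right) (e' p.2))) :=
      isFrame_tens ((he p.1).restrict L _) ((he' p.2).restrict L' _)
    have hr := Groth.L21.Extend.rs_self (CohB1.tensorMod L L')
      (tens L L' W (rs L (hp.trans inf_le_left) (e p.1)) (rs L' (hp.trans inf_le_right) (e' p.2)))
    have hac : a = c₁ * c₂ := trans_eq hF le_rfl ((congrArg (_ • ·) hr).trans ha) (by
      rw [hr, ← hc₁, ← hc₂, tens_smul_left, tens_smul_right, smul_smul, Units.val_mul])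
    rw [hac, sec_mul, map_add, htr p.1 q.1 W _ _ c₁ hc₁, htr' p.2 q.2 W _ _ c₂ hc₂, map_add, map_add, res_res,
      res_res, res_res, res_res]
    abel

variable {w : f ≫ g = 0}

theorem δ₀_eq_iff (hS : (ShortComplex.mk f g w).ShortExact) {t t' : Q.obj.obj (op ⊤)}
    {L L' : X.Modules} (h : Assoc f g t L) (h' : Assoc f g t' L') :
    δ₀ hS t = δ₀ hS t' ↔ Nonempty (L ≅ L') := by
  rw [← exists_iff_iso hS h h', ← δ₀_eq_zero_iff hS, map_sub, sub_eq_zero, eq_comm]

/-- the comparison isomorphism -/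
theorem nonempty_addEquiv_pic (X : Scheme.{u}) [PicGrp.Law X] :
    Nonempty (Additive (PicLoc.PicSet X) ≃+ CohTop.H (UnitsSh.unitsAb X) 1) := by
  obtain ⟨P⟩ := (inferInstance : EnoughInjectives (CohTop.Ab X.toTopCat)).presentation (UnitsSh.unitsAb X)
  haveI := P.injective
  haveI := P.mono
  have hS : (ShortComplex.mk P.f (cokernel.π P.f) (cokernel.condition _)).ShortExact :=
    { exact := ShortComplex.exact_cokernel _ }
  choose L hLc hL using fun p : PicLoc.PicSet X => p.2
  choose t ht using fun p => exists_assoc_section (f := P.f) (g := cokernel.π P.f) (w := cokernel.condition _)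
    (L p) (hL p)
  let Φ : PicLoc.PicSet X → CohTop.H (UnitsSh.unitsAb X) 1 := fun p => δ₀ hS (t p)
  have hadd : ∀ p q, Φ (p * q) = Φ p + Φ q := fun p q => by
    have hcl : PicF.cl (CohB1.tensorMod (L p) (L q)) = PicF.cl (L (p * q)) := by
      rw [← PicGrp.mulCl_cl, hLc, hLc, hLc, PicGrp.mul_val]
    have := (δ₀_eq_iff hS (assoc_add (ht p) (ht q)) (ht (p * q))).2 ((PicGrp.cl_eq_cl_iff _ _).1 hcl)
    rw [map_add] at this
    exact this.symm
  refine ⟨AddEquiv.ofBijective (AddMonoidHom.mk' (fun p => Φ (Additive.toMul p)) fun p q => hadd _ _) ⟨?_, ?_⟩⟩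
  · intro p q hpq
    refine Additive.toMul.injective (Subtype.ext ?_)
    rw [← hLc (Additive.toMul p), ← hLc (Additive.toMul q)]
    exact (PicGrp.cl_eq_cl_iff _ _).2 ((δ₀_eq_iff hS (ht _) (ht _)).1 hpq)
  · intro c
    obtain ⟨y, rfl⟩ := exists_δ₀ hS c
    obtain ⟨M, hM, hA⟩ := exists_assoc_module hS y
    let p : PicLoc.PicSet X := ⟨PicF.cl M, M, rfl, hM⟩
    exact ⟨Additive.ofMul p, (δ₀_eq_iff hS (ht p) hA).2 ((PicGrp.cl_eq_cl_iff _ _).1 (hLc p))⟩

end Groth.L02.PicH1
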