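import Groth.Agent.L02.PicH1.Basic

/-!
The long exact cohomology sequence on a space, in low degrees.
-/

set_option autoImplicit false
set_option linter.style.haveILetI false
set_option linter.unusedSectionVars false
set_option backward.isDefEq.respectTransparency.types false
set_option backward.isDefEq.respectTransparency false

universe u

open CategoryTheory CategoryTheory.Limits CategoryTheory.Abelian Opposite TopologicalSpace

noncomputable section

namespace Groth.L02.PicH1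

open Groth.L10.SiteCoh (fs hu0 hu0_comp hEquiv hEquiv_map hEquiv_symm_map)
open Groth.L10.TopCoh (topTerminal)

variable {X : TopCat.{u}} {A I Q : CohTop.Ab X} {f : A ⟶ I} {g : I ⟶ Q} {w : f ≫ g = 0}

/-- degree zero cohomology is global sections -/
def h0 (F : CohTop.Ab X) : CohTop.H F 0 ≃+ F.obj.obj (op ⊤) :=
  (hEquiv (topTerminal X) F 0).trans (hu0 F ⊤)

theorem h0_map {F G : CohTop.Ab X} (φ : F ⟶ G) (x : CohTop.H F 0) :
    h0 G (Sheaf.H.map φ 0 x) = φ.hom.app (op ⊤) (h0 F x) := by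
  show hu0 G ⊤ (hEquiv (topTerminal X) G 0 _) = φ.hom.app (op ⊤) (hu0 F ⊤ (hEquiv (topTerminal X) F 0 x))
  rw [hEquiv_map, hu0_comp]

variable (hS : (ShortComplex.mk f g w).ShortExact)

/-- the connecting homomorphism -/
def δn (n : ℕ) : CohTop.H Q n →+ CohTop.H A (n + 1) :=
  AddMonoidHom.mk' (fun x => Ext.comp (x : Ext _ Q n) hS.extClass rfl) fun x y => Ext.add_comp x y hS.extClass rfl

theorem δn_eq_zero_iff (n : ℕ) (x : CohTop.H Q n) : δn hS n x = 0 ↔ ∃ y, Sheaf.H.map g n y = x := by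
  constructor
  · intro h
    exact Ext.covariant_sequence_exact₃ _ hS x rfl h
  · rintro ⟨y, rfl⟩
    exact (Ext.comp_assoc_of_second_deg_zero _ _ _ _).trans (by
      rw [show (Ext.mk₀ g).comp hS.extClass (zero_add 1) = 0 from hS.comp_extClass]; exact Ext.comp_zero y _ 1 (n + 1) rfl)

include hS in
theorem map_g_eq_zero_iff (n : ℕ) (x : CohTop.H I n) : Sheaf.H.map g n x = 0 ↔ ∃ y, Sheaf.H.map f n y = x := by
  constructor
  · intro h
    exact Ext.covariant_sequence_exact₂ _ hS x h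
  · rintro ⟨y, rfl⟩
    exact (Ext.comp_assoc_of_second_deg_zero y (Ext.mk₀ f) (Ext.mk₀ g) _).trans (by
      rw [Ext.mk₀_comp_mk₀, w, Ext.mk₀_zero]; exact Ext.comp_zero y _ 0 n (add_zero n))

theorem map_f_eq_zero_iff (x : CohTop.H A 1) : Sheaf.H.map f 1 x = 0 ↔ ∃ t, δ₀ hS t = x := by
  constructor
  · intro h
    obtain ⟨y, hy⟩ := Ext.covariant_sequence_exact₁ _ hS (hEquiv (topTerminal X) A 1 x)
      (by rw [← hEquiv_map, h, map_zero]) (zero_add 1)
    refine ⟨hu0 Q ⊤ y, ?_⟩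
    show (hEquiv (topTerminal X) A 1).symm (((hu0 Q ⊤).symm _).comp _ _) = x
    rw [AddEquiv.symm_apply_apply]
    exact ((hEquiv (topTerminal X) A 1).symm_apply_eq).2 hy
  · rintro ⟨t, rfl⟩
    show Sheaf.H.map f 1 ((hEquiv (topTerminal X) A 1).symm _) = 0
    rw [hEquiv_symm_map, EmbeddingLike.map_eq_zero_iff, Ext.comp_assoc_of_third_deg_zero,
      show hS.extClass.comp (Ext.mk₀ f) (add_zero 1) = 0 from hS.extClass_comp, Ext.comp_zero]

variable {A' I' Q' : CohTop.Ab X} {f' : A' ⟶ I'} {g' : I' ⟶ Q'} {w' : f' ≫ g' = 0}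
  (hS' : (ShortComplex.mk f' g' w').ShortExact)

theorem δ₀_naturality (φ₁ : A ⟶ A') (φ₂ : I ⟶ I') (φ₃ : Q ⟶ Q') (h₁ : φ₁ ≫ f' = f ≫ φ₂)
    (h₂ : φ₂ ≫ g' = g ≫ φ₃) (t : Q.obj.obj (op ⊤)) :
    Sheaf.H.map φ₁ 1 (δ₀ hS t) = δ₀ hS' (φ₃.hom.app (op ⊤) t) := by
  show Sheaf.H.map φ₁ 1 ((hEquiv (topTerminal X) A 1).symm _) = (hEquiv (topTerminal X) A' 1).symm _
  rw [hEquiv_symm_map]
  congr 1
  have hn := ShortComplex.ShortExact.extClass_naturality hS hS'
    (ShortComplex.Hom.mk φ₁ φ₂ φ₃ h₁ h₂ : ShortComplex.mk f g w ⟶ ShortComplex.mk f' g' w')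
  have ht : (hu0 Q' ⊤).symm (φ₃.hom.app (op ⊤) t) = ((hu0 Q ⊤).symm t).comp (Ext.mk₀ φ₃) (add_zero 0) := by
    apply (hu0 Q' ⊤).injective
    rw [hu0_comp, AddEquiv.apply_symm_apply, AddEquiv.apply_symm_apply]
  rw [Ext.comp_assoc_of_third_deg_zero, ht, Ext.comp_assoc_of_second_deg_zero]
  exact congrArg (fun e => ((hu0 Q ⊤).symm t).comp e (zero_add 1)) hn

end Groth.L02.PicH1
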