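import Groth.Agent.L02.PicH1.Equiv
import Groth.Agent.L02.PicH1.Les
import Groth.Agent.L10.UnitsThick.Sheaf
import Groth.Agent.L18.Frame

/-!
Pullback of invertible modules in terms of first cohomology of the units.
-/

set_option autoImplicit false
set_option linter.style.haveILetI false
set_option linter.unusedSectionVars false
set_option backward.isDefEq.respectTransparency.types false
set_option backward.isDefEq.respectTransparency false

universe u

open CategoryTheory CategoryTheory.Limits AlgebraicGeometry Opposite TopologicalSpace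
open Groth.L21.Extend (rs rs_rs rs_smul IsGen)

noncomputable section

namespace Groth.L02.PicH1

/-- the comparison isomorphism with its characterisation -/
theorem exists_addEquiv_pic {X : Scheme.{u}} [PicGrp.Law X] {I Q : CohTop.Ab X.toTopCat}
    {f : UnitsSh.unitsAb X ⟶ I} {g : I ⟶ Q} {w : f ≫ g = 0} [Injective I]
    (hS : (ShortComplex.mk f g w).ShortExact) {H : Type u} [AddCommGroup H] (δ : Q.obj.obj (op ⊤) →+ H)
    (hker : ∀ t, δ t = 0 ↔ ∃ z, g.hom.app (op ⊤) z = t) (hsur : Function.Surjective δ) :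
    ∃ e : Additive (PicLoc.PicSet X) ≃+ H, ∀ (L : X.Modules) (hL : PicF.IsInvertible L) (t : Q.obj.obj (op ⊤)),
      Assoc f g t L → e (Additive.ofMul (PicGrp.cls L hL)) = δ t := by
  have hiff : ∀ {t t' : Q.obj.obj (op ⊤)} {L L' : X.Modules}, Assoc f g t L → Assoc f g t' L' →
      (δ t = δ t' ↔ Nonempty (L ≅ L')) := fun h h' => by
    rw [← exists_iff_iso hS h h', ← hker, map_sub, sub_eq_zero, eq_comm]
  choose L hLc hL using fun p : PicLoc.PicSet X => p.2
  choose t ht using fun p => exists_assoc_section (f := f) (g := g) (w := w) (L p) (hL p)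
  let Φ : PicLoc.PicSet X → H := fun p => δ (t p)
  have hadd : ∀ p q, Φ (p * q) = Φ p + Φ q := fun p q => by
    have hcl : PicF.cl (CohB1.tensorMod (L p) (L q)) = PicF.cl (L (p * q)) := by
      rw [← PicGrp.mulCl_cl, hLc, hLc, hLc, PicGrp.mul_val]
    have := (hiff (assoc_add (ht p) (ht q)) (ht (p * q))).2 ((PicGrp.cl_eq_cl_iff _ _).1 hcl)
    rw [map_add] at this
    exact this.symm
  refine ⟨AddEquiv.ofBijective (AddMonoidHom.mk' (fun p => Φ (Additive.toMul p)) fun p q => hadd _ _) ⟨?_, ?_⟩, ?_⟩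
  · intro p q hpq
    refine Additive.toMul.injective (Subtype.ext ?_)
    rw [← hLc (Additive.toMul p), ← hLc (Additive.toMul q)]
    exact (PicGrp.cl_eq_cl_iff _ _).2 ((hiff (ht _) (ht _)).1 hpq)
  · intro c
    obtain ⟨y, rfl⟩ := hsur c
    obtain ⟨M, hM, hA⟩ := exists_assoc_module hS y
    let p : PicLoc.PicSet X := ⟨PicF.cl M, M, rfl, hM⟩
    exact ⟨Additive.ofMul p, (hiff (ht p) hA).2 ((PicGrp.cl_eq_cl_iff _ _).1 (hLc p))⟩
  · intro M hM s hA
    exact (hiff (ht _) hA).2 ((PicGrp.cl_eq_cl_iff _ _).1 (hLc _))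

theorem shortExact_push {X Y : TopCat.{u}} (i : X ⟶ Y) (hi : Topology.IsInducing i) (hs : Function.Surjective i)
    {S : ShortComplex (CohTop.Ab X)} (hS : S.ShortExact) :
    (ShortComplex.mk ((CohTop.push i).map S.f) ((CohTop.push i).map S.g) (by
      rw [← Functor.map_comp, S.zero, Functor.map_zero])).ShortExact := by
  haveI : PreservesFiniteLimits (CohTop.push i) := by
    haveI := (TopCat.Sheaf.pullbackPushforwardAdjunction AddCommGrpCat.{u} i).rightAdjoint_preservesLimits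
    infer_instance
  haveI := hS.mono_f
  haveI := hS.epi_g
  exact
    { exact := hS.exact.map_of_mono_of_preservesKernel (CohTop.push i) hS.mono_f inferInstance
      mono_f := inferInstanceAs (Mono ((CohTop.push i).map S.f))
      epi_g := Groth.L10.UnitsThick.epi_of_local_lift _ fun V s y hy => by
        obtain ⟨x, rfl⟩ := hs y
        obtain ⟨O, hxO, j, t, ht⟩ := Groth.L10.UnitsThick.exists_local_lift S.g
          (V := (Opens.map i).obj V) s (show x ∈ (Opens.map i).obj V from hy)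
        obtain ⟨W, hW, hWO⟩ := hi.isOpen_iff.1 O.isOpen
        have hle : (Opens.map i).obj (⟨W, hW⟩ ⊓ V) ≤ O := fun z hz => (Set.ext_iff.1 hWO z).1 hz.1
        refine ⟨⟨W, hW⟩ ⊓ V, ⟨(Set.ext_iff.1 hWO x).2 hxO, hy⟩, homOfLE inf_le_right,
          S.X₂.obj.map (homOfLE hle).op t, ?_⟩
        show S.g.hom.app (op _) (S.X₂.obj.map (homOfLE hle).op t) = S.X₃.obj.map _ s
        rw [NatTrans.naturality_apply S.g.hom, ht, ← Functor.map_comp_apply]
        rfl }

variable {X X' : Scheme.{u}} (i : X ⟶ X')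
  {I Q : CohTop.Ab X.toTopCat} {f : UnitsSh.unitsAb X ⟶ I} {g : I ⟶ Q}
  {I' Q' : CohTop.Ab X'.toTopCat} {f' : UnitsSh.unitsAb X' ⟶ I'} {g' : I' ⟶ Q'}
  (φ₂ : I' ⟶ (CohTop.push i.base).obj I) (φ₃ : Q' ⟶ (CohTop.push i.base).obj Q)
  (h₁ : UnitsSh.comap i ≫ (CohTop.push i.base).map f = f' ≫ φ₂)
  (h₂ : φ₂ ≫ (CohTop.push i.base).map g = g' ≫ φ₃)

/-- a global section of the direct image -/
def topSec (t : Q'.obj.obj (op ⊤)) : Q.obj.obj (op ⊤) := φ₃.hom.app (op ⊤) t

open Groth.L18.Frame (pull pull_rs pull_smul)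

include h₁ h₂ in
theorem assoc_pull {t : Q'.obj.obj (op ⊤)} {L : X'.Modules} (h : Assoc f' g' t L) :
    Assoc f g (topSec i φ₃ t) ((Scheme.Modules.pullback i).obj L) := by
  obtain ⟨ι, N, s, e, hcov, hs, he, htr⟩ := h
  refine ⟨ι, fun a => i ⁻¹ᵁ N a, fun a => φ₂.hom.app (op (N a)) (s a), fun a => pull i L (N a) (e a),
    fun x => hcov (i x), fun a => ?_, fun a => Groth.L18.Frame.IsFrame.pullback i L (he a), ?_⟩
  · have e1 : g.hom.app (op (i ⁻¹ᵁ N a)) (φ₂.hom.app (op (N a)) (s a)) = φ₃.hom.app (op (N a)) (g'.hom.app (op (N a)) (s a)) :=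
      ConcreteCategory.congr_hom (congrArg (fun k : I' ⟶ _ => k.hom.app (op (N a))) h₂) (s a)
    rw [e1, hs, res_eq]
    exact NatTrans.naturality_apply φ₃.hom (homOfLE (le_top : N a ≤ ⊤)).op t
  · intro a b W ha hb u hu
    obtain ⟨v, hv⟩ := exists_unit_trans (he a) (he b) (inf_le_left : N a ⊓ N b ≤ N a) (inf_le_right : N a ⊓ N b ≤ N b)
    have hW : W ≤ i ⁻¹ᵁ (N a ⊓ N b) := le_inf ha hb
    let v' : Γ(X, i ⁻¹ᵁ (N a ⊓ N b))ˣ := Units.map (i.app (N a ⊓ N b)).hom.toMonoidHom v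
    have h1 := congrArg (pull i L (N a ⊓ N b)) hv
    rw [pull_smul] at h1
    have e2 : ∀ c (hc : N a ⊓ N b ≤ N c), pull i L (N a ⊓ N b) (rs L hc (e c)) =
        rs _ (i.preimage_mono hc) (pull i L (N c) (e c)) := fun c hc => (pull_rs i _ hc _).symm
    rw [e2 a inf_le_left, e2 b inf_le_right] at h1
    have h3 := congrArg (rs ((Scheme.Modules.pullback i).obj L) hW) h1
    rw [rs_smul, rs_rs, rs_rs] at h3
    have hu' : u = rU hW v' := trans_eq (Groth.L18.Frame.IsFrame.pullback i L (he a)) ha hu h3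
    rw [hu', ← res_sec, res_nat]
    have e3 : f.hom.app (op (i ⁻¹ᵁ (N a ⊓ N b))) (sec v') = φ₂.hom.app (op (N a ⊓ N b)) (f'.hom.app _ (sec v)) :=
      ConcreteCategory.congr_hom (congrArg (fun k : UnitsSh.unitsAb X' ⟶ _ => k.hom.app (op (N a ⊓ N b))) h₁) (sec v)
    rw [e3, htr a b _ inf_le_left inf_le_right v hv, map_sub, map_sub, res_nat φ₂, res_nat φ₂]
    congr 1
    · exact res_res I hW (i.preimage_mono inf_le_right) _
    · exact res_res I hW (i.preimage_mono inf_le_left) _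

variable {w : f ≫ g = 0} {w' : f' ≫ g' = 0}

include h₁ h₂ in
/-- pullback corresponds to the map induced by comparison of units -/
theorem exists_compat [IsClosedImmersion i] (hs : Function.Surjective i) [PicGrp.Law X] [PicGrp.Law X']
    (hi : PicGrp.PullMul i) [Injective I] [Injective I'] (hS : (ShortComplex.mk f g w).ShortExact)
    (hS' : (ShortComplex.mk f' g' w').ShortExact) :
    ∃ (e' : Additive (PicLoc.PicSet X') ≃+ CohTop.H (UnitsSh.unitsAb X') 1)
      (e : Additive (PicLoc.PicSet X) ≃+ CohTop.H ((CohTop.push i.base).obj (UnitsSh.unitsAb X)) 1),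
      ∀ p, e (Additive.ofMul (PicGrp.pullHom i hi p)) = Sheaf.H.map (UnitsSh.comap i) 1 (e' (Additive.ofMul p)) := by
  have hP := shortExact_push i.base i.isClosedEmbedding.isInducing hs hS
  haveI : Injective ((CohTop.push i.base).obj I) := Groth.L10.TopCoh.push_injective i.base I
  obtain ⟨e', he'⟩ := exists_addEquiv_pic hS' (δ₀ hS') (δ₀_eq_zero_iff hS') (exists_δ₀ hS')
  let δ : Q.obj.obj (op ⊤) →+ CohTop.H ((CohTop.push i.base).obj (UnitsSh.unitsAb X)) 1 := δ₀ hP
  obtain ⟨e, he⟩ := exists_addEquiv_pic hS δ (δ₀_eq_zero_iff hP) (exists_δ₀ hP)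
  refine ⟨e', e, fun p => ?_⟩
  obtain ⟨L, hL, rfl⟩ := PicGrp.exists_eq_cls p
  obtain ⟨t, ht⟩ := exists_assoc_section (f := f') (g := g') (w := w') L hL
  have hpull : PicGrp.pullHom i hi (PicGrp.cls L hL) =
      PicGrp.cls ((Scheme.Modules.pullback i).obj L) (PicLoc.isInvertible_pullback i hL) := Subtype.ext rfl
  rw [hpull, he _ _ _ (assoc_pull i φ₂ φ₃ h₁ h₂ ht), he' L hL t ht]
  exact (δ₀_naturality hS' hP (UnitsSh.comap i) φ₂ φ₃ h₁ h₂ t).symm

end Groth.L02.PicH1
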