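import Groth.Agent.L02.PicH1.Pull
import Groth.Agent.L10.UnitsThick.SqZero

/-!
The units sequence of a first order thickening.
-/

set_option autoImplicit false
set_option linter.style.haveILetI false
set_option linter.unusedSectionVars false
set_option backward.isDefEq.respectTransparency.types false
set_option backward.isDefEq.respectTransparency false

universe u

open CategoryTheory CategoryTheory.Limits AlgebraicGeometry Opposite TopologicalSpace
open Groth.L10.UnitsThick (oneAddHom oneAddHom_comap shortExact_oneAddHom mul_eq_zero_of_app_eq_zero)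

noncomputable section

namespace Groth.L02.PicH1

variable {X : Scheme.{u}} (J : X.IdealSheafData) (hJ : J * J = ⊥)

include hJ in
theorem surjective_subschemeι : Function.Surjective J.subschemeι := by
  intro x
  show x ∈ Set.range J.subschemeι
  rw [Scheme.IdealSheafData.range_subschemeι]
  obtain ⟨U, hU, hxU, -⟩ := exists_isAffineOpen_mem_and_subset (U := (⊤ : X.Opens)) (x := x) trivial
  have h0 : J.ideal ⟨U, hU⟩ * J.ideal ⟨U, hU⟩ = ⊥ := congrArg (fun K : X.IdealSheafData => K.ideal ⟨U, hU⟩) hJ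
  refine (Scheme.IdealSheafData.mem_support_iff_of_mem (U := ⟨U, hU⟩) hxU).2 ((Scheme.mem_zeroLocus_iff _ _ _).2
    fun a ha hxa => ?_)
  have h2 : a * a = 0 := (Submodule.mem_bot _).1 (h0 ▸ Ideal.mul_mem_mul ha ha)
  rw [show X.basicOpen a = ⊥ from eq_bot_iff.2 fun y hy => ?_] at hxa
  · exact hxa
  · obtain ⟨hyU, hu⟩ := (Scheme.mem_basicOpen'' _ a y).1 hy
    exact absurd ((hu.mul hu)) (by rw [← map_mul, h2, map_zero]; exact not_isUnit_zero)

include hJ in
/-- the exact sequence of units, cohomology and Picard groups of a thickening -/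
theorem exists_units_sequence [PicGrp.Law X] [PicGrp.Law J.subscheme] (hi : PicGrp.PullMul J.subschemeι) :
    ∃ (ε : Multiplicative (Coh.HH X (ClSub.idealMod J) 0) →* (Γ(X, ⊤))ˣ)
      (δ₀ : (Γ(J.subscheme, ⊤))ˣ →* Multiplicative (Coh.HH X (ClSub.idealMod J) 1))
      (α : Multiplicative (Coh.HH X (ClSub.idealMod J) 1) →* PicLoc.PicSet X)
      (δ₁ : PicLoc.PicSet J.subscheme →* Multiplicative (Coh.HH X (ClSub.idealMod J) 2)),
      Function.Injective ε ∧
      (Units.map J.subschemeι.appTop.hom.toMonoidHom).ker = ε.range ∧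
      δ₀.ker = (Units.map J.subschemeι.appTop.hom.toMonoidHom).range ∧
      α.ker = δ₀.range ∧
      (PicGrp.pullHom J.subschemeι hi).ker = α.range ∧
      δ₁.ker = (PicGrp.pullHom J.subschemeι hi).range := by
  let i := J.subschemeι
  let hT := shortExact_oneAddHom J hJ
  obtain ⟨P⟩ := (inferInstance : EnoughInjectives (CohTop.Ab J.subscheme.toTopCat)).presentation
    (UnitsSh.unitsAb J.subscheme)
  obtain ⟨P'⟩ := (inferInstance : EnoughInjectives (CohTop.Ab X.toTopCat)).presentation (UnitsSh.unitsAb X)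
  haveI := P.injective
  haveI := P.mono
  haveI := P'.injective
  haveI := P'.mono
  have hS : (ShortComplex.mk P.f (cokernel.π P.f) (cokernel.condition _)).ShortExact :=
    { exact := ShortComplex.exact_cokernel _ }
  have hS' : (ShortComplex.mk P'.f (cokernel.π P'.f) (cokernel.condition _)).ShortExact :=
    { exact := ShortComplex.exact_cokernel _ }
  haveI : Injective ((CohTop.push i.base).obj P.J) := Groth.L10.TopCoh.push_injective i.base P.J
  let φ₂ : P'.J ⟶ (CohTop.push i.base).obj P.J :=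
    Injective.factorThru (UnitsSh.comap i ≫ (CohTop.push i.base).map P.f) P'.f
  have h₁ : UnitsSh.comap i ≫ (CohTop.push i.base).map P.f = P'.f ≫ φ₂ := (Injective.comp_factorThru _ _).symm
  let φ₃ : cokernel P'.f ⟶ (CohTop.push i.base).obj (cokernel P.f) :=
    cokernel.desc P'.f (φ₂ ≫ (CohTop.push i.base).map (cokernel.π P.f)) (by
      rw [← Category.assoc, ← h₁, Category.assoc, ← Functor.map_comp, cokernel.condition, Functor.map_zero,
        comp_zero])
  have h₂ : φ₂ ≫ (CohTop.push i.base).map (cokernel.π P.f) = cokernel.π P'.f ≫ φ₃ :=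
    (cokernel.π_desc _ _ _).symm
  obtain ⟨e', e, hcompat⟩ := exists_compat i φ₂ φ₃ h₁ h₂ (surjective_subschemeι J hJ) hi hS hS'
  let A := Coh.toAb (ClSub.idealMod J)
  let C := (CohTop.push i.base).obj (UnitsSh.unitsAb J.subscheme)
  let ε : Multiplicative (Coh.HH X (ClSub.idealMod J) 0) →* (Γ(X, ⊤))ˣ :=
    AddMonoidHom.toMultiplicativeLeft (AddMonoidHom.mk'
      (fun x : CohTop.H A 0 => Additive.ofMul (UnitsSh.unitOfSect (X := X.toTopCat) (O := X.sheaf.obj)
        ((oneAddHom J hJ).hom.app (op ⊤) (h0 A x))))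
      fun x y => by rw [map_add, map_add]; rfl)
  let d₀ : (Γ(J.subscheme, ⊤))ˣ →* Multiplicative (Coh.HH X (ClSub.idealMod J) 1) :=
    AddMonoidHom.toMultiplicativeRight (AddMonoidHom.mk'
      (fun u : Additive (Γ(J.subscheme, ⊤))ˣ => δ₀ hT (sec (X := J.subscheme) u.toMul))
      fun x y => by rw [← map_add]; rfl)
  let α : Multiplicative (Coh.HH X (ClSub.idealMod J) 1) →* PicLoc.PicSet X :=
    AddMonoidHom.toMultiplicativeLeft ((e'.symm.toAddMonoidHom).comp (Sheaf.H.map (oneAddHom J hJ) 1))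
  let d₁ : PicLoc.PicSet J.subscheme →* Multiplicative (Coh.HH X (ClSub.idealMod J) 2) :=
    AddMonoidHom.toMultiplicativeRight ((δn hT 1).comp e.toAddMonoidHom)
  have hα : ∀ x : CohTop.H A 1, α (Multiplicative.ofAdd x) =
      (e'.symm (Sheaf.H.map (oneAddHom J hJ) 1 x)).toMul := fun x => rfl
  refine ⟨ε, d₀, α, d₁, ?_, ?_, ?_, ?_, ?_, ?_⟩
  · intro x y h
    have h1 : (oneAddHom J hJ).hom.app (op ⊤) (h0 A x.toAdd) = (oneAddHom J hJ).hom.app (op ⊤) (h0 A y.toAdd) := h
    exact Multiplicative.toAdd.injective ((h0 A).injective (app_injective hT _ h1))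
  · ext v
    constructor
    · intro hv
      have hv' : (UnitsSh.comap i).hom.app (op ⊤) (sec (X := X) v) = 0 := hv
      obtain ⟨z, hz⟩ := app_exact hT _ hv'
      refine ⟨Multiplicative.ofAdd ((h0 A).symm z), ?_⟩
      show UnitsSh.unitOfSect (X := X.toTopCat) (O := X.sheaf.obj)
        ((oneAddHom J hJ).hom.app (op ⊤) (h0 A ((h0 A).symm z))) = v
      rw [AddEquiv.apply_symm_apply]
      exact congrArg (UnitsSh.unitOfSect (X := X.toTopCat) (O := X.sheaf.obj)) hz
    · rintro ⟨x, rfl⟩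
      exact g_f (w := oneAddHom_comap J hJ) (h0 A x.toAdd)
  · ext v
    refine (δ₀_eq_zero_iff hT (sec (X := J.subscheme) v)).trans ⟨?_, ?_⟩
    · rintro ⟨z, hz⟩
      exact ⟨UnitsSh.unitOfSect (X := X.toTopCat) (O := X.sheaf.obj) z, hz⟩
    · rintro ⟨z, hz⟩
      exact ⟨sec (X := X) z, hz⟩
  · ext x
    have : α x = 1 ↔ Sheaf.H.map (oneAddHom J hJ) 1 x.toAdd = 0 := by
      rw [show α x = (e'.symm (Sheaf.H.map (oneAddHom J hJ) 1 x.toAdd)).toMul from rfl, toMul_eq_one,
        EmbeddingLike.map_eq_zero_iff]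
    refine MonoidHom.mem_ker.trans (this.trans ((map_f_eq_zero_iff hT _).trans ⟨?_, ?_⟩))
    · rintro ⟨t, ht⟩
      exact ⟨UnitsSh.unitOfSect (X := J.subscheme.toTopCat) (O := J.subscheme.sheaf.obj) (U := op ⊤) t,
        Multiplicative.toAdd.injective ht⟩
    · rintro ⟨v, rfl⟩
      exact ⟨_, rfl⟩
  · ext p
    have : PicGrp.pullHom i hi p = 1 ↔ Sheaf.H.map (UnitsSh.comap i) 1 (e' (Additive.ofMul p)) = 0 := by
      rw [← hcompat]
      exact ofMul_eq_zero.symm.trans e.map_eq_zero_iff.symm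
    refine MonoidHom.mem_ker.trans (this.trans ((map_g_eq_zero_iff hT 1 _).trans ⟨?_, ?_⟩))
    · rintro ⟨y, hy⟩
      refine ⟨Multiplicative.ofAdd y, ?_⟩
      rw [hα, hy, AddEquiv.symm_apply_apply]
      rfl
    · rintro ⟨x, rfl⟩
      exact ⟨x.toAdd, (e'.apply_symm_apply _).symm⟩
  · ext q
    refine (δn_eq_zero_iff hT 1 (e (Additive.ofMul q))).trans ⟨?_, ?_⟩
    · rintro ⟨y, hy⟩
      refine ⟨(e'.symm y).toMul, Additive.ofMul.injective (e.injective ?_)⟩
      rw [hcompat, ofMul_toMul, AddEquiv.apply_symm_apply]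
      exact hy
    · rintro ⟨p, rfl⟩
      exact ⟨e' (Additive.ofMul p), (hcompat p).symm⟩

end Groth.L02.PicH1
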